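import Cfsg.Agent.H78.Copy.Commute
import Cfsg.Agent.H78.EightNine.Generation
import Mathlib.GroupTheory.SpecificGroups.Alternating.Simple
import Mathlib.GroupTheory.Coset.Card
import Mathlib.Data.Finite.Card

/-! A copy of the alternating group of degree 8 containing the centralizer of `s`. -/

set_option autoImplicit false
set_option maxRecDepth 20000

namespace H78.Copy

open Equiv EightNine H55.SThree H78.MTwelve

variable {G : Type*} [Group G] {s : G} {Q : Subgroup G} {φ : ℕ → G}

/-- The values of the letters. -/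
def evalG (φ : ℕ → G) (g1 g2 : G) : ℕ → G
  | 0 => φ 36
  | 1 => φ 135
  | 2 => φ 179
  | 3 => φ 84
  | 4 => g1
  | 5 => g2
  | _ => 1

theorem evalG_tab (g1 g2 : G) : ∀ i < 4, evalG φ g1 g2 i = φ (LG.getD i 0)
  | 0, _ | 1, _ | 2, _ | 3, _ => rfl
  | n + 4, h => absurd h (by omega)

theorem evalG_word (F : Frame s Q true false φ) (g1 g2 : G) : ∀ u : List ℕ, isTabWord u = true →
    (u.map (evalG φ g1 g2)).prod = φ (evW LG u) := by
  intro u
  induction u with
  | nil => intro _; exact F.map_zero.symm
  | cons i u ih =>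
    intro h
    simp only [isTabWord, List.all_cons, Bool.and_eq_true, decide_eq_true_eq] at h
    have hA : LG.getD i 0 ∈ allL := getD_mem (fun x hx => (LG_spec x hx).1) i
    rw [List.map_cons, List.prod_cons, ih h.2, evalG_tab g1 g2 i h.1,
      F.mul _ hA _ (evW_mem (getD_mem fun x hx => (LG_spec x hx).1) u)]
    rfl

theorem evP_eq (u : List ℕ) : evP u = (u.map fun i => perms.getD i 1).prod := by
  induction u with
  | nil => rfl
  | cons i u ih => rw [List.map_cons, List.prod_cons, ← ih]; rfl

theorem sign_evP : ∀ u : List ℕ, Perm.sign (evP u) = 1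
  | [] => map_one _
  | i :: u => by
    show Perm.sign (perms.getD i 1 * evP u) = 1
    rw [map_mul, sign_evP u, mul_one]
    by_cases hi : i < perms.length
    · rw [List.getD_eq_getElem _ _ hi]; exact (perms_invol _ (List.getElem_mem hi)).2
    · rw [List.getD_eq_default _ _ (by omega), map_one]

/-- The relators hold for the swaps. -/
theorem rels_hold (W : TwoData s Q φ) {g1 g2 : G} (h1 : side1.IsSwap φ g1) (h2 : side2.IsSwap φ g2)
    (hc : g1 * g2 * (g1 * g2) = 1) : ∀ r ∈ cert.rels, (r.map (evalG φ g1 g2)).prod = 1 := by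
  have F := W.frame
  intro r hr
  rcases rels_split r hr with ⟨ht, h0⟩ | h | h
  · rw [evalG_word F g1 g2 r ht, h0, F.map_zero]
  · have b1 := Side.swap_braid side1_good F W.mem_kL h1
    have b2 := Side.swap_braid side2_good F W.mem_kL h2
    rw [pow_succ, pow_two] at b1 b2
    simp only [List.mem_cons, List.not_mem_nil, or_false] at h
    rcases h with rfl | rfl | rfl | rfl | rfl <;>
      simp only [List.map_cons, List.map_nil, List.prod_cons, List.prod_nil, evalG, mul_one]
    · exact h1.sq
    · exact h2.sq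
    · simpa [mul_assoc] using b1
    · simpa [mul_assoc] using b2
    · simpa [mul_assoc] using hc
  · obtain ⟨⟨g, u, v⟩, ht, rfl⟩ := List.mem_map.mp h
    obtain ⟨hu, hv, hcase⟩ := conjRels_spec _ ht
    simp only [List.map_append, List.prod_append, List.map_cons, List.map_nil, List.prod_cons,
      List.prod_nil, mul_one, evalG_word F g1 g2 u hu, evalG_word F g1 g2 v hv]
    have key : ∀ {S : Side} (_ : S.Good) {x : G} (_ : S.IsSwap φ x), evW LG u ∈ S.dom →
        mu (S.al (evW LG u)) (evW LG v) = 0 → x * φ (evW LG u) * x * φ (evW LG v) = 1 := by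
      intro S hS x hx hu' h0
      have hA := hS.dom_allL _ (hS.alpha_mem _ hu').1
      calc x * φ (evW LG u) * x * φ (evW LG v)
          = (x * φ (evW LG u) * x⁻¹) * (x * x) * φ (evW LG v) := by group
        _ = φ (mu (S.al (evW LG u)) (evW LG v)) := by
          rw [hx.maps _ hu', hx.sq, mul_one,
            F.mul _ hA _ (evW_mem (getD_mem fun a ha => (LG_spec a ha).1) v)]
        _ = 1 := by rw [h0, F.map_zero]
    rcases hcase with ⟨hg, hu', h0⟩ | ⟨hg, hu', h0⟩ <;> dsimp only at hg hu' h0 <;> subst hg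
    · exact key side1_good h1 hu' h0
    · exact key side2_good h2 hu' h0

/-- A copy of the alternating group of degree 8 containing the centralizer of `s`. -/
theorem exists_copy [Finite G] (W : TwoData s Q φ) : ∃ G0 : Subgroup G,
    Nonempty (G0 ≃* alternatingGroup (Fin 8)) ∧ Subgroup.centralizer ({s} : Set G) ≤ G0 := by
  have F := W.frame
  obtain ⟨g1, g2, h1, h2, hc⟩ := exists_commuting W
  let e : ℕ → G × P8 := fun i => (evalG φ g1 g2 i, perms.getD i 1)
  have eprod : ∀ u : List ℕ, (u.map e).prod = ((u.map (evalG φ g1 g2)).prod, evP u) := by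
    intro u
    induction u with
    | nil => rfl
    | cons i u ih => rw [List.map_cons, List.prod_cons, ih, List.map_cons, List.prod_cons]; rfl
  set H := Subgroup.closure (e '' {i | i < 4}) with hH
  set K := Subgroup.closure (e '' {i | i ∈ cert.gens}) with hK
  have hee : ∀ i, e i * e i = 1 := by
    intro i
    refine Prod.ext ?_ ?_
    · show evalG φ g1 g2 i * evalG φ g1 g2 i = 1
      have hLG : ∀ j, j < 4 → φ (LG.getD j 0) * φ (LG.getD j 0) = 1 := fun j hj => by
        have hm : LG.getD j 0 ∈ LG := by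
          rw [List.getD_eq_getElem _ _ (show j < LG.length from hj)]; exact List.getElem_mem _
        rw [F.mul _ (LG_spec _ hm).1 _ (LG_spec _ hm).1,
          show mulC true false _ _ = 0 from (LG_spec _ hm).2, F.map_zero]
      rcases (show i < 4 ∨ i = 4 ∨ i = 5 ∨ 6 ≤ i by omega) with h | rfl | rfl | h
      · rw [evalG_tab g1 g2 i h]; exact hLG i h
      · exact h1.sq
      · exact h2.sq
      · obtain ⟨m, rfl⟩ : ∃ m, i = m + 6 := ⟨i - 6, by omega⟩
        exact one_mul 1
    · show perms.getD i 1 * perms.getD i 1 = 1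
      by_cases hi : i < perms.length
      · rw [List.getD_eq_getElem _ _ hi]; exact (perms_invol _ (List.getElem_mem hi)).1
      · rw [List.getD_eq_default _ _ (by omega), one_mul]
  have hgens : ∀ i ∈ cert.gens, i < 6 := by decide
  have hV : cert.Valid e H := by
    refine ⟨rfl, fun i => ?_, fun w hw => ?_, fun i hi => ?_⟩
    · have hflip : cert.flip i = i := by
        rcases (show i < 7 ∨ 7 ≤ i by omega) with h | h
        · exact (show ∀ j ∈ List.range 7, cert.flip j = j by decide) i (List.mem_range.2 h)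
        · exact List.getD_eq_default _ _ (show cert.inv.length ≤ i from h)
      rw [hflip]
      exact eq_inv_of_mul_eq_one_left (hee i)
    · rw [eprod, rels_hold W h1 h2 hc w hw, rels_perm w hw]
      rfl
    · exact Subgroup.subset_closure ⟨i, (show ∀ j ∈ cert.sub, j < 4 by decide) i hi, rfl⟩
  have hgraph : ∀ x ∈ H, ∃ c ∈ allL, x = (φ c, evP (cw c)) := by
    intro x hx
    induction hx using Subgroup.closure_induction_right with
    | one => exact ⟨0, H55.SThree.zero_mem_allL, Prod.ext F.map_zero.symm gen_words.2.2.2.2.2.2.2.symm⟩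
    | mul_right x _ y hy ih =>
      obtain ⟨i, hi, rfl⟩ := hy
      obtain ⟨c, hc', rfl⟩ := ih
      have hA : LG.getD i 0 ∈ allL := getD_mem (fun x hx => (LG_spec x hx).1) i
      exact ⟨mu c (LG.getD i 0), mu_mem hc' hA, Prod.ext
        (by show φ c * evalG φ g1 g2 i = _; rw [evalG_tab g1 g2 i hi, F.mul c hc' _ hA])
        ((cwords_spec c hc').2.2 i (List.mem_range.2 hi)).symm⟩
    | mul_inv_cancel x _ y hy ih =>
      obtain ⟨i, hi, rfl⟩ := hy
      obtain ⟨c, hc', rfl⟩ := ih
      have hA : LG.getD i 0 ∈ allL := getD_mem (fun x hx => (LG_spec x hx).1) i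
      rw [inv_eq_of_mul_eq_one_right (hee i)]
      exact ⟨mu c (LG.getD i 0), mu_mem hc' hA, Prod.ext
        (by show φ c * evalG φ g1 g2 i = _; rw [evalG_tab g1 g2 i hi, F.mul c hc' _ hA])
        ((cwords_spec c hc').2.2 i (List.mem_range.2 hi)).symm⟩
  have hHcard : Nat.card H ≤ 192 := by
    have hex : ∀ x : H, ∃ c : Fin 192, (x : G × P8) = (φ c.val, evP (cw c.val)) := fun x => by
      obtain ⟨c, hc', e'⟩ := hgraph x.1 x.2
      exact ⟨⟨c, mem_allL.1 hc'⟩, e'⟩
    choose f hf using hex
    have := Nat.card_le_card_of_injective f fun x y h => Subtype.ext (by rw [hf x, hf y, h])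
    rwa [Nat.card_fin] at this
  have : Finite (G × P8) := inferInstance
  have hKcard : Nat.card K ≤ 20160 := by
    refine le_trans (Cert.card_le hV cert_facts cert_close) ?_
    rw [cert_live]
    exact Nat.mul_le_mul_right 105 hHcard
  have hmemgens : ∀ i < 6, i ∈ cert.gens := by decide
  have hwordK : ∀ u : List ℕ, (∀ i ∈ u, i < 6) → (u.map e).prod ∈ K := fun u hu =>
    Subgroup.list_prod_mem _ fun x hx => by
      obtain ⟨i, hi, rfl⟩ := List.mem_map.mp hx
      exact Subgroup.subset_closure ⟨i, hmemgens i (hu i hi), rfl⟩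
  -- the projection to the alternating group
  have hev : ∀ x ∈ K, Perm.sign x.2 = 1 := by
    intro x hx
    refine (show K ≤ (Perm.sign.comp (MonoidHom.snd G P8)).ker from ?_) hx
    rw [hK, Subgroup.closure_le]
    rintro _ ⟨i, -, rfl⟩
    show Perm.sign (perms.getD i 1) = 1
    have := sign_evP [i]
    simpa [evP] using this
  let π2 : K →* alternatingGroup (Fin 8) :=
    { toFun := fun x => ⟨x.1.2, hev x.1 x.2⟩
      map_one' := rfl
      map_mul' := fun _ _ => rfl }
  have hsurj : Function.Surjective π2 := by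
    intro p
    have key : (p : P8) ∈ K.map (MonoidHom.snd G P8) := by
      refine (Subgroup.closure_le _).2 ?_ (mem_closure_gen p.2)
      rintro _ ⟨i, hi, rfl⟩
      obtain ⟨w0, w1, w2, w3, w4, w5, -, -⟩ := gen_words
      have mk : ∀ u : List ℕ, (∀ i ∈ u, i < 6) → evP u ∈ K.map (MonoidHom.snd G P8) := fun u hu =>
        ⟨(u.map e).prod, hwordK u hu, by rw [eprod]; rfl⟩
      have hi6 : i < 6 := hi
      rcases (show i = 0 ∨ i = 1 ∨ i = 2 ∨ i = 3 ∨ i = 4 ∨ i = 5 by omega) with
        rfl | rfl | rfl | rfl | rfl | rfl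
      · rw [w0]; exact mk _ (by decide)
      · rw [w1]; exact mk _ (by decide)
      · rw [w2]; exact mk _ (by decide)
      · rw [w3]; exact mk _ (by decide)
      · rw [w4]; exact mk _ (by decide)
      · rw [w5]; exact mk _ (by decide)
    obtain ⟨x, hx, hxe⟩ := key
    exact ⟨⟨x, hx⟩, Subtype.ext hxe⟩
  have hA8 : Nat.card (alternatingGroup (Fin 8)) = 20160 := by
    rw [nat_card_alternatingGroup, Nat.card_fin]; decide
  have hbij : Function.Bijective π2 := (Nat.bijective_iff_surjective_and_card π2).2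
    ⟨hsurj, le_antisymm (by rw [hA8]; exact hKcard) (Nat.card_le_card_of_surjective π2 hsurj)⟩
  let e2 : K ≃* alternatingGroup (Fin 8) := MulEquiv.ofBijective π2 hbij
  let ψ : alternatingGroup (Fin 8) →* G :=
    ((MonoidHom.fst G P8).comp K.subtype).comp e2.symm.toMonoidHom
  have hrange : ∀ x (hx : x ∈ K), ψ (π2 ⟨x, hx⟩) = x.1 := fun x hx => by
    show ((e2.symm (e2 ⟨x, hx⟩) : K) : G × P8).1 = x.1
    rw [MulEquiv.symm_apply_apply]
  have hcode : ∀ c ∈ allL, ∃ hx : (φ c, evP (cw c)) ∈ K, ψ (π2 ⟨_, hx⟩) = φ c := by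
    intro c hc'
    obtain ⟨ht, hcv, -⟩ := cwords_spec c hc'
    have hu : ∀ i ∈ cw c, i < 6 := fun i hi => by
      have := of_decide_eq_true (List.all_eq_true.mp ht i hi); omega
    have hm := hwordK _ hu
    rw [eprod, evalG_word F g1 g2 _ ht, hcv] at hm
    exact ⟨hm, hrange _ hm⟩
  have : IsSimpleGroup (alternatingGroup (Fin 8)) := alternatingGroup.isSimpleGroup (by norm_num)
  have hinj : Function.Injective ψ := by
    rw [← MonoidHom.ker_eq_bot_iff]
    refine (MonoidHom.normal_ker ψ).eq_bot_or_eq_top.resolve_right fun htop => F.s_ne ?_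
    obtain ⟨hx, he⟩ := hcode 96 s_mem_allL
    rw [← F.map_s, ← he]
    exact MonoidHom.mem_ker.mp (htop ▸ Subgroup.mem_top _)
  refine ⟨ψ.range, ⟨(MonoidHom.ofInjective hinj).symm⟩, fun g hg => ?_⟩
  obtain ⟨c, hc', rfl⟩ := F.surj g hg
  obtain ⟨hx, he⟩ := hcode c hc'
  exact ⟨_, he⟩

end H78.Copy
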