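import Cfsg.Agent.H55.SThree.TwoDef

/-!
Coordinates for the elements exchanging the central involution with an involution of a fused
invariant subgroup.
-/

set_option autoImplicit false
set_option maxRecDepth 20000

namespace H78.Copy

open H55.SThree

/-- The product in the exchanging table. -/
abbrev mu (c d : ℕ) : ℕ := mulC true false c d
/-- Conjugation in the exchanging table. -/
abbrev cj (g c : ℕ) : ℕ := conjC true false g c

/-- The code of a word in given letters. -/
def evW (v : List ℕ) : List ℕ → ℕ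
  | [] => 0
  | i :: w => mu (v.getD i 0) (evW v w)

/-- Data of one fused invariant subgroup: `w` in it, `z = s w`, `f` a third basis element, `l` an
involution exchanging `w` and `z`, and the automorphism of the centralizer of `w` on generators. -/
structure Side where
  k : ℕ
  w : ℕ
  z : ℕ
  f : ℕ
  l : ℕ
  gens : List ℕ
  ims : List ℕ
  dom : List ℕ
  words : List (List ℕ)

/-- The data for the invariant subgroup of index 1. -/
def side1 : Side where
  k := 1
  w := 36
  z := 132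
  f := 66
  l := 30
  gens := [12, 15, 69]
  ims := [177, 15, 24]
  dom := [0, 3, 12, 15, 24, 27, 36, 39, 54, 57, 66, 69, 78, 81, 90, 93, 96, 99, 108, 111, 120, 123, 132, 135, 150, 153, 162, 165, 174, 177, 186, 189]
  words := [[], [0, 0, 0, 1], [0], [1], [0, 1, 1], [0, 1, 0], [2, 2], [0, 0, 1, 0], [1, 0, 2, 0], [0, 2], [0, 0, 1, 0, 2], [2], [0, 2, 1], [0, 2, 0], [2, 1], [2, 0], [0, 0], [0, 1], [0, 0, 0], [0, 0, 1], [0, 2, 2], [1, 2, 2], [1, 1], [1, 0], [0, 1, 0, 2], [0, 0, 0, 2], [1, 0, 2], [0, 0, 2], [0, 1, 2], [1, 1, 2], [1, 2], [0, 0, 2, 0]]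

/-- The data for the invariant subgroup of index 2. -/
def side2 : Side where
  k := 2
  w := 54
  z := 150
  f := 180
  l := 30
  gens := [6, 9, 45]
  ims := [141, 51, 144]
  dom := [0, 3, 6, 9, 36, 39, 42, 45, 48, 51, 54, 57, 84, 87, 90, 93, 96, 99, 102, 105, 132, 135, 138, 141, 144, 147, 150, 153, 180, 183, 186, 189]
  words := [[], [0, 0, 0, 1], [0], [1], [0, 1, 0, 2], [0, 0, 0, 2], [0, 0, 1, 0, 2], [2], [0, 1, 1], [0, 1, 0], [2, 2], [0, 0, 1, 0], [0, 2, 1], [0, 2, 0], [1, 2], [0, 0, 2, 0], [0, 0], [0, 1], [0, 0, 0], [0, 0, 1], [1, 0, 2, 0], [0, 2], [1, 0, 2], [0, 0, 2], [0, 2, 2], [1, 2, 2], [1, 1], [1, 0], [0, 1, 2], [1, 1, 2], [2, 1], [2, 0]]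

namespace Side

/-- The automorphism. -/
def al (S : Side) (a : ℕ) : ℕ := evW S.ims (S.words.getD (S.dom.idxOf a) [])

/-- The word of an element. -/
def wd (S : Side) (a : ℕ) : List ℕ := S.words.getD (S.dom.idxOf a) []

/-- The element `d` conjugates the standard images to the given ones. -/
def isTwist (S : Side) (d : ℕ) (t : List ℕ) : Bool := S.ims.map (cj d) == t

/-- Invariants preserved by an element normalizing the invariant subgroup. -/
def okPair (S : Side) (a b : ℕ) : Bool :=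
  ((a == 0) == (b == 0)) && (kL.contains a == kL.contains b) && ((mu a a == 0) == (mu b b == 0)) &&
    (!(eL S.k).contains a || (eL S.k).contains b)

/-- The possible images of the generators. -/
def cands (S : Side) : List (List ℕ) :=
  let pre := fun i => S.dom.filter fun b => S.okPair (S.gens.getD i 0) b
  (pre 0).flatMap fun p => (pre 1).flatMap fun q => (pre 2).filterMap fun r =>
    let t := [p, q, r]
    if evW t (S.wd 96) == S.w && evW t (S.wd S.w) == 96 &&
      ([[1, 2], [0, 0, 0, 1], [0, 2]] : List (List ℕ)).all (fun u => S.okPair (evW S.gens u) (evW t u))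
    then some t else none

/-- The table facts about one side. -/
structure Good (S : Side) : Prop where
  basic : S.k ∈ List.range 3 ∧ S.w ∈ rL ∧ kIx S.w = S.k ∧ S.z = mu S.w 96 ∧ S.gens.length = 3 ∧
    S.ims.length = 3 ∧ 96 ∈ S.dom ∧ S.w ∈ S.dom ∧ S.z ∈ S.dom ∧ S.f ∈ S.dom ∧ S.l ∈ allL
  dom : ∀ c ∈ allL, isC true false c S.w = true ↔ c ∈ S.dom
  dom_allL : ∀ c ∈ S.dom, c ∈ allL
  elem : ∀ c ∈ eL S.k, c ∈ S.dom
  word : ∀ a ∈ S.dom, evW S.gens (S.wd a) = a ∧ (S.wd a).all (fun i => decide (i < 3)) = true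
  alpha : S.al 96 = S.w ∧ S.al S.w = 96 ∧ S.al S.z = S.z ∧ S.al S.f = S.f
  alpha_mem : ∀ a ∈ S.dom, S.al a ∈ S.dom ∧ S.al (S.al a) = a
  gens_mem : ∀ i ∈ List.range 3, S.gens.getD i 0 ∈ S.dom ∧ S.ims.getD i 0 = S.al (S.gens.getD i 0)
  twist : ∀ t ∈ S.cands, (S.dom.any fun d => S.isTwist d t) = true
  centre : ∀ c ∈ S.dom, (∀ i ∈ List.range 3, isC true false c (S.gens.getD i 0) = true) →
    c = 0 ∨ c = 96 ∨ c = S.w ∨ c = S.z
  centre_inner : ∀ a ∈ S.dom, cj 96 a = a ∧ cj S.z a = a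
  invl : mu S.l S.l = 0 ∧ cj S.l S.w = S.z ∧ cj S.l S.z = S.w ∧ isC true false S.l 96 = true ∧
    ∀ a ∈ S.dom, cj S.l a ∈ S.dom
  class_long : ∀ c ∈ allL, isI true false c = true →
    (∀ i ∈ List.range 3, cj c (S.gens.getD i 0) =
      S.al (cj S.l (S.al (cj S.l (S.al (S.gens.getD i 0)))))) → c ∈ kL
  braid : cj 179 S.w = S.f ∧ cj 179 S.f = S.w ∧ cj 179 96 = 96
  cube : ∀ c ∈ allL, isC true false c S.w = true → isC true false c S.f = true →
    (c ∈ S.dom ∧ (cj 179 c ∈ S.dom → S.al (cj 179 c) = c →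
      c = 0 ∨ (mu 179 c ∉ kL ∧ c ≠ 0)))

end Side

end H78.Copy
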