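import Cfsg.Agent.H78.Copy.CertData
import Cfsg.Agent.H78.Copy.Sides
import Cfsg.Agent.H78.EightNine.Lists

/-! The letters of the certificate in the table and in the alternating group of degree 8. -/

set_option autoImplicit false
set_option maxRecDepth 20000

namespace H78.Copy

open Equiv EightNine H55.SThree

/-- The codes of the letters lying in the centralizer. -/
def LG : List ℕ := [36, 135, 179, 84]

/-- The permutations of the letters. -/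
def perms : List P8 :=
  [swap 0 6 * swap 1 7 * swap 2 4 * swap 3 5, swap 0 7 * swap 1 6 * swap 2 3 * swap 4 5,
    swap 0 5 * swap 1 4 * swap 2 3 * swap 6 7, swap 0 3 * swap 1 2 * swap 4 6 * swap 5 7,
    swap 0 2 * swap 1 4 * swap 3 6 * swap 5 7, swap 0 2 * swap 1 4 * swap 3 7 * swap 5 6]

/-- The words of the codes. -/
def cwords : List (List ℕ) := [[], [0, 1, 3, 0, 3, 2, 1], [0, 2, 1], [1, 3, 0, 3], [1, 2, 0], [0, 2, 3, 0, 3], [0, 1, 3, 1], [1, 3, 0, 2, 1], [2, 0, 1, 3, 0], [1, 3], [0, 1, 3, 2, 0], [3, 2, 3, 0], [2, 0, 3, 2], [2, 3, 0, 1, 2], [0, 2, 0, 3, 1], [1, 2, 3, 0, 2], [3, 0, 1, 3, 2], [0, 2, 3], [2, 0, 2, 3, 0], [1, 2, 0, 1, 3], [3, 2, 0, 1], [0, 3, 1, 2, 0, 2], [3, 1, 2], [0, 3, 0, 2], [0, 2, 3, 0, 2], [1, 2, 0, 3, 1], [2, 3, 0, 1], [2, 0, 3, 2, 1], [1, 2, 3], [2, 0, 3, 0], [0, 2, 0, 2, 3, 0], [2, 0, 1, 2, 3], [0, 3, 2, 0, 1],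 [3, 1, 2, 0, 2], [0, 3, 1, 2], [3, 0, 2], [0], [1, 3, 0, 3, 2, 1], [2, 1], [0, 1, 3, 0, 3], [0, 1, 2, 0], [2, 3, 0, 3], [0, 1, 3, 0, 1], [1, 3, 2, 1], [0, 2, 1, 3], [1, 3, 0], [3, 1, 2, 0, 3], [0, 3, 2, 0, 3], [0, 3], [3, 0, 1, 2, 1], [0, 3, 0, 2, 1], [3, 1], [0, 3, 1, 2, 0], [3, 2, 0], [2, 0, 3, 0, 2], [1, 2, 3, 1], [3, 0, 2, 1, 3], [0, 3, 1, 3], [1, 2, 0, 3], [0, 2, 3, 0], [0, 2, 0, 3, 2, 3], [0, 2, 1, 3, 0, 2], [2, 1, 3, 0], [2, 0, 2, 1, 3], [1, 3, 2], [0, 3, 0, 2, 3], [2, 0, 2], [2, 1, 3, 0, 3, 2], [0, 2, 0, 1], [1, 2, 3, 0, 3, 2], [0, 1, 2], [3, 0, 3, 2], [2, 3, 0, 2, 3], [2, 0, 1, 3, 2], [0, 2, 0, 1, 3], [2, 0, 2, 1, 3, 0], [1, 3, 0, 2], [0, 3, 2, 3], [0, 2, 0, 2], [1, 2, 1, 3, 0, 3], [2, 0, 1], [2, 3, 0, 3, 2, 1], [1, 2], [0, 3, 0, 3, 2], [3], [0, 3, 0, 1, 2, 1], [3, 0, 2, 1], [0, 3, 1], [3, 1, 2, 0], [0, 3, 2, 0], [0, 2, 3, 2], [1,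 3, 0, 2, 1, 3], [2, 3, 1], [0, 3, 0, 1, 3], [0, 1, 2, 3, 0], [2, 0, 3], [0, 3, 0, 3], [1, 2, 1], [3, 0, 3, 2, 1], [0, 1], [1, 2, 3, 0, 3], [0, 2, 0], [1, 3, 0, 1], [0, 1, 3, 2, 1], [2, 1, 3], [0, 1, 3, 0], [1, 3, 0, 2, 0], [3, 2, 0, 3], [2, 3, 0, 2], [2, 0, 3, 1, 2], [0, 2, 3, 0, 1], [1, 2, 0, 3, 2], [0, 1, 2, 3], [0, 2, 0, 3, 0], [0, 2, 0, 2, 3], [1, 2, 1, 3, 0], [2, 3, 0, 1, 3], [2, 0, 2, 3, 1], [0, 3, 0, 1, 2], [3, 2], [0, 2, 0, 3, 2], [1, 2, 3, 0, 1], [2, 0, 3, 1], [2, 3, 0, 2, 1], [1, 2, 0, 3, 0], [2, 3], [2, 0, 2, 3], [0, 1, 2, 1, 3, 0], [3, 0, 2, 0, 1], [0, 2, 0, 2, 3, 1], [3, 0, 1, 2], [0, 3, 2], [3, 0, 3], [0, 1, 2, 1], [0, 3, 0, 3, 2, 1], [1], [0, 1, 2, 3, 0, 3], [2, 0], [1, 3, 1], [0, 1, 3, 0, 2, 1], [3, 0, 2, 3, 1], [0, 1, 3], [1, 3, 2, 0], [0, 3, 2, 3, 0], [3, 0], [0, 1, 2, 1, 3], [3, 2, 1], [0, 3, 0, 1], [3, 0, 1, 2, 0], [0,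 3, 0, 2, 0], [2, 3, 2], [1, 2, 0, 3, 0, 1], [0, 2, 3, 1], [3, 0, 1, 3], [1, 2, 3, 0], [0, 2, 0, 3], [0, 2, 3, 0, 2, 3], [1, 3, 2, 0, 1], [2, 0, 1, 3], [1, 2, 0, 2, 3, 0], [0, 1, 3, 0, 2], [3, 2, 3], [2, 3, 0, 3, 2], [2, 0, 1, 2], [0, 2, 1, 3, 0, 3], [1, 2, 0, 2], [1, 3, 0, 3, 2], [0, 2], [2, 0, 3, 2, 3], [2, 1, 3, 0, 2], [0, 2, 1, 3, 0], [1, 2, 0, 2, 3], [0, 1, 3, 2], [3, 0, 2, 3], [0, 2, 3, 0, 3, 2], [1, 2, 0, 1], [2, 1, 3, 0, 3], [2, 0, 2, 1], [0, 1, 3, 0, 3, 2], [2], [0, 3, 0], [1, 2, 1, 3], [0, 3, 2, 1], [3, 0, 1], [1, 3, 2, 0, 3], [3, 0, 2, 0], [1, 3, 0, 1, 3], [0, 1, 2, 3, 1], [2, 0, 3, 0, 1], [3, 1, 3], [0, 1, 2, 0, 3], [2, 3, 0]]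

/-- The word of a code. -/
def cw (c : ℕ) : List ℕ := cwords.getD c []

/-- The permutation of a word. -/
def evP : List ℕ → P8
  | [] => 1
  | i :: w => perms.getD i 1 * evP w

/-- Whether a word stays in the centralizer. -/
def isTabWord (u : List ℕ) : Bool := u.all fun i => decide (i < 4)

/-- The relators leaving the centralizer, apart from the braid and commutation relations. -/
def conjRels : List (ℕ × List ℕ × List ℕ) :=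
  [(4, [2, 0, 3, 2], [1, 2, 0, 2]), (4, [1, 2, 3, 0, 2], [2, 0, 3, 2, 1]),
    (4, [1, 2, 3, 0, 3, 2], [2, 0, 3, 2, 0]), (5, [0, 1, 3, 1], [3, 1, 0]), (5, [1, 3], [1, 3]),
    (5, [1, 3, 0], [0, 3])]

/-- The relators. -/
theorem rels_split : ∀ r ∈ cert.rels, isTabWord r = true ∧ evW LG r = 0 ∨
    r ∈ [[4, 4], [5, 5], [4, 2, 4, 2, 4, 2], [5, 2, 5, 2, 5, 2], [4, 5, 4, 5]] ∨
    r ∈ conjRels.map fun t => [t.1] ++ t.2.1 ++ [t.1] ++ t.2.2 := by decide +kernel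

/-- The relators hold for the permutations. -/
theorem rels_perm : ∀ r ∈ cert.rels, evP r = 1 :=
  forall_mem_of_all (by decide +kernel)

/-- The conjugation relators in the table. -/
theorem conjRels_spec : ∀ t ∈ conjRels, isTabWord t.2.1 = true ∧ isTabWord t.2.2 = true ∧
    ((t.1 = 4 ∧ evW LG t.2.1 ∈ side1.dom ∧ mu (side1.al (evW LG t.2.1)) (evW LG t.2.2) = 0) ∨
     (t.1 = 5 ∧ evW LG t.2.1 ∈ side2.dom ∧ mu (side2.al (evW LG t.2.1)) (evW LG t.2.2) = 0)) := by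
  decide +kernel

theorem perms_invol : ∀ p ∈ perms, p * p = 1 ∧ Perm.sign p = 1 := forall_mem_of_all (by decide +kernel)

theorem LG_spec : ∀ c ∈ LG, c ∈ allL ∧ mu c c = 0 := by decide +kernel

theorem cwords_spec : ∀ c ∈ allL, isTabWord (cw c) = true ∧ evW LG (cw c) = c ∧
    ∀ i ∈ List.range 4, evP (cw (mu c (LG.getD i 0))) = evP (cw c) * perms.getD i 1 := by
  have h : ∀ c ∈ allL, isTabWord (cw c) = true ∧ evW LG (cw c) = c ∧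
      ((List.range 4).all fun i =>
        decide (evP (cw (mu c (LG.getD i 0))) = evP (cw c) * perms.getD i 1)) = true := by
    decide +kernel
  exact fun c hc => ⟨(h c hc).1, (h c hc).2.1,
    fun i hi => of_decide_eq_true (List.all_eq_true.mp (h c hc).2.2 i hi)⟩

/-- Carmichael's generators as words. -/
theorem gen_words : gen 0 = evP [2, 0, 4, 3, 5, 2, 0] ∧ gen 1 = evP [2, 0, 2, 3] ∧
    gen 2 = evP [0, 1, 3, 4, 5, 2, 0, 2, 5, 3] ∧ gen 3 = evP [0, 2, 3, 0, 2, 3] ∧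
    gen 4 = evP [2, 3, 4, 5, 3, 2] ∧ gen 5 = evP [0, 4, 0, 1, 4] ∧ evP (cw 96) ≠ 1 ∧ evP (cw 0) = 1 := by
  decide +kernel

/-- The data of the modification of the first swap. -/
theorem square_data : ([3, 36, 54, 90].all fun x => side2.dom.contains x &&
      side1.dom.contains (side2.al x) && side2.dom.contains (side1.al (side2.al x)) &&
      side1.dom.contains (side2.al (side1.al (side2.al x))) &&
      (side1.al (side2.al (side1.al (side2.al x))) == x)) = true ∧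
    (∀ c ∈ allL, ([3, 36, 54, 90].all fun x => isC true false c x) = true →
      c ∈ side1.dom ∧ c ∈ side2.dom ∧
      (mu c (side1.al c) = 0 → mu c (side2.al c) = 0 → c = 0 ∨ c = 189)) ∧
    side2.dom.contains side1.z = true ∧ side1.dom.contains (side2.al side1.z) = true ∧
    side2.dom.contains (mu (side1.al (side2.al side1.z)) side1.z) = true ∧
    side2.al (mu (side1.al (side2.al side1.z)) side1.z) = 189 ∧ mu 189 189 = 0 ∧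
    side1.dom.contains side2.w = true ∧ side2.dom.contains (side1.al side2.w) = true ∧
    side1.dom.contains (side2.al (side1.al side2.w)) = true ∧
    side1.al (side2.al (side1.al side2.w)) = 96 ∧ mu side1.z side1.z = 0 := by decide +kernel

end H78.Copy
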