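import Cfsg.Agent.H78.Copy.Pair
import Cfsg.Agent.H78.Copy.Model

/-! The two swaps can be chosen commuting. -/

set_option autoImplicit false

namespace H78.Copy

open H55.SThree

variable {G : Type*} [Group G] {s : G} {Q : Subgroup G} {φ : ℕ → G}

theorem conjC_zero_iff : ∀ c ∈ allL, (mu c c = 0) ↔ invC true false c = c := by decide +kernel

/-- Two commuting swaps. -/
theorem exists_commuting (W : TwoData s Q φ) : ∃ g1 g2 : G, side1.IsSwap φ g1 ∧ side2.IsSwap φ g2 ∧
    g1 * g2 * (g1 * g2) = 1 := by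
  have F := W.frame
  obtain ⟨g1, h1⟩ := Side.exists_swap side1_good F W.fused_one W.mem_kL
  obtain ⟨g2, h2⟩ := Side.exists_swap side2_good F W.fused_two W.mem_kL
  obtain ⟨hX, hC, e1, e2, e3, e4, e5, f1, f2, f3, f4, hzz⟩ := square_data
  set k := g1 * g2 * (g1 * g2) with hk
  have i1 : g1⁻¹ = g1 := inv_eq_of_mul_eq_one_right h1.sq
  have i2 : g2⁻¹ = g2 := inv_eq_of_mul_eq_one_right h2.sq
  -- the square commutes with four elements
  have hX' : ∀ x ∈ [3, 36, 54, 90], Commute k (φ x) := by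
    intro x hx
    have h := List.all_eq_true.mp hX x hx
    simp only [Bool.and_eq_true, beq_iff_eq] at h
    obtain ⟨⟨⟨⟨a1, a2⟩, a3⟩, a4⟩, a5⟩ := h
    have hh := mp_comp (mp_comp (mp_comp (side_mp h2 a1 rfl) (side_mp h1 a2 rfl)) (side_mp h2 a3 rfl))
      (side_mp h1 a4 a5)
    refine mul_inv_eq_iff_eq_mul.mp ?_
    unfold Mp at hh
    rw [hk]
    simpa [mul_assoc] using hh
  -- and with the central involution
  have h96 : Commute k s := by
    obtain ⟨ha1, -, -, -⟩ := side1_good.alpha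
    obtain ⟨hb1, -, -, -⟩ := side2_good.alpha
    have hh := mp_comp (mp_comp (mp_comp
      (side_mp h2 (List.contains_iff_mem.2 side2_good.basic.2.2.2.2.2.2.1) hb1)
      (side_mp h1 f1 rfl)) (side_mp h2 f2 rfl)) (side_mp h1 f3 f4)
    refine mul_inv_eq_iff_eq_mul.mp ?_
    unfold Mp at hh
    rw [F.map_s] at hh
    rw [hk]
    simpa [mul_assoc] using hh
  obtain ⟨c, hc, hce⟩ := F.surj k (Frame.mem_L_iff.2 h96)
  have hcomm : ([3, 36, 54, 90].all fun x => isC true false c x) = true := by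
    rw [List.all_eq_true]
    intro x hx
    have hxA : x ∈ allL := mem_allL.2 (by
      simp only [List.mem_cons, List.not_mem_nil, or_false] at hx; omega)
    exact (F.commute_iff hc hxA).1 (hce.symm ▸ hX' x hx)
  obtain ⟨hc1, hc2, hcases⟩ := hC c hc hcomm
  have inv_step : ∀ {S : Side} (_ : S.Good) {g : G} (_ : S.IsSwap φ g) (_ : c ∈ S.dom),
      g * k * g⁻¹ = k⁻¹ → mu c (S.al c) = 0 := by
    intro S hS g hg hcS e
    have hA := hS.dom_allL _ (hS.alpha_mem c hcS).1
    refine F.inj _ (mu_mem hc hA) 0 zero_mem_allL ?_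
    rw [show φ (mu c (S.al c)) = φ c * φ (S.al c) from (F.mul c hc _ hA).symm, ← hg.maps c hcS,
      hce, e, mul_inv_cancel, F.map_zero]
  have k1 : g1 * k * g1⁻¹ = k⁻¹ := by
    rw [i1, hk]
    simp only [mul_inv_rev, i1, i2]
    calc g1 * (g1 * g2 * (g1 * g2)) * g1 = (g1 * g1) * g2 * g1 * g2 * g1 := by group
      _ = g2 * g1 * (g2 * g1) := by rw [h1.sq]; group
  have k2 : g2 * k * g2⁻¹ = k⁻¹ := by
    rw [i2, hk]
    simp only [mul_inv_rev, i1, i2]
    calc g2 * (g1 * g2 * (g1 * g2)) * g2 = g2 * g1 * g2 * g1 * (g2 * g2) := by group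
      _ = g2 * g1 * (g2 * g1) := by rw [h2.sq]; group
  rcases hcases (inv_step side1_good h1 hc1 k1) (inv_step side2_good h2 hc2 k2) with hc0 | hc189
  · exact ⟨g1, g2, h1, h2, by rw [← hk, ← hce, hc0, F.map_zero]⟩
  · -- change the first swap by the product of `s` and `w`
    have hzA : side1.z ∈ allL := side1_good.dom_allL _ side1_good.basic.2.2.2.2.2.2.2.2.1
    have hz : g1 * φ side1.z * g1⁻¹ = φ side1.z := by
      have := h1.maps _ side1_good.basic.2.2.2.2.2.2.2.2.1
      rwa [side1_good.alpha.2.2.1] at this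
    have hzz' : φ side1.z * φ side1.z = 1 := by
      rw [F.mul _ hzA _ hzA, show mulC true false side1.z side1.z = 0 from hzz, F.map_zero]
    refine ⟨g1 * φ side1.z, g2, ⟨?_, fun a ha => ?_⟩, h2, ?_⟩
    · calc g1 * φ side1.z * (g1 * φ side1.z) = (g1 * φ side1.z * g1⁻¹) * (g1 * g1) * φ side1.z := by group
        _ = 1 := by rw [hz, h1.sq, mul_one, hzz']
    · have h0 := mp_conj F hzA (side1_good.dom_allL a ha)
      rw [(side1_good.centre_inner a ha).2] at h0
      exact mp_comp h0 (h1.maps a ha)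
    · set y := side2.al side1.z
      have hy : g2 * φ side1.z * g2⁻¹ = φ y := side_mp h2 e1 rfl
      have hyA : y ∈ allL := side2_good.dom_allL _ (side2_good.alpha_mem _ (List.contains_iff_mem.1 e1)).1
      have hy1 : g1 * φ y * g1⁻¹ = φ (side1.al y) := side_mp h1 e2 rfl
      have hy1A : side1.al y ∈ allL :=
        side1_good.dom_allL _ (side1_good.alpha_mem _ (List.contains_iff_mem.1 e2)).1
      have hlast : g2 * φ (mu (side1.al y) side1.z) * g2⁻¹ = φ 189 := side_mp h2 e3 e4
      calc g1 * φ side1.z * g2 * (g1 * φ side1.z * g2)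
          = g1 * g2 * (g2⁻¹ * φ side1.z * g2) * g1 * φ side1.z * g2 := by group
        _ = g1 * g2 * φ y * g1 * φ side1.z * g2 := by rw [← hy, i2]
        _ = g1 * g2 * g1 * (g1⁻¹ * φ y * g1) * φ side1.z * g2 := by group
        _ = g1 * g2 * g1 * (φ (side1.al y) * φ side1.z) * g2 := by rw [← hy1, i1]; group
        _ = g1 * g2 * (g1 * g2) * (g2⁻¹ * φ (mu (side1.al y) side1.z) * g2) := by
          rw [show φ (side1.al y) * φ side1.z = φ (mu (side1.al y) side1.z) from F.mul _ hy1A _ hzA]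
          group
        _ = φ 189 * φ 189 := by rw [← hk, ← hce, hc189, ← hlast, i2]
        _ = 1 := by
          have h189 : (189 : ℕ) ∈ allL := mem_allL.2 (by norm_num)
          rw [F.mul _ h189 _ h189, show mulC true false 189 189 = 0 from e5, F.map_zero]

end H78.Copy
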