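import Cfsg.Agent.H78.Copy.Sides

/-! The facts for the invariant subgroup of index 2. -/

set_option autoImplicit false
set_option maxRecDepth 20000

namespace H78.Copy

open H55.SThree

theorem side2_good : side2.Good where
  basic := by decide +kernel
  dom := by decide +kernel
  dom_allL := by decide +kernel
  elem := by decide +kernel
  word := by decide +kernel
  alpha := by decide +kernel
  alpha_mem := by decide +kernel
  gens_mem := by decide +kernel
  twist := by decide +kernel
  centre := by decide +kernel
  centre_inner := by decide +kernel
  invl := by decide +kernel
  class_long := by decide +kernel
  braid := by decide +kernel
  cube := by decide +kernel

end H78.Copy
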