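import Cfsg.Agent.H78.Copy.Swap
import Cfsg.Agent.H78.Copy.Side1
import Cfsg.Agent.H78.Copy.Side2

/-! Two commuting swaps. -/

set_option autoImplicit false

namespace H78.Copy

open H55.SThree

variable {G : Type*} [Group G] {s : G} {Q : Subgroup G} {φ : ℕ → G}

theorem side_mp {S : Side} {g : G} {a b : ℕ} (hg : S.IsSwap φ g) (ha : S.dom.contains a = true)
    (h : S.al a = b) : Mp φ g a b := h ▸ hg.maps a (List.contains_iff_mem.1 ha)

end H78.Copy
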