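import Cfsg.Agent.H78.Copy.Sides
import Cfsg.Agent.H55.SThree.Basic
import Cfsg.Agent.H65.Dihedral
import Mathlib.Data.List.GetD

/-!
Involutions exchanging the central involution with an involution of a fused invariant subgroup, with
prescribed action on the common centralizer.
-/

set_option autoImplicit false

namespace H78.Copy

open H55.SThree

theorem mu_mem {c d : ℕ} (hc : c ∈ allL) (hd : d ∈ allL) : mu c d ∈ allL :=
  mem_allL.2 (mulC_lt true false c hc d hd)

theorem evW_mem {v : List ℕ} (hv : ∀ i, v.getD i 0 ∈ allL) : ∀ u, evW v u ∈ allL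
  | [] => H55.SThree.zero_mem_allL
  | i :: u => mu_mem (hv i) (evW_mem hv u)

theorem getD_mem {l : List ℕ} (h : ∀ x ∈ l, x ∈ allL) (i : ℕ) : l.getD i 0 ∈ allL := by
  by_cases hi : i < l.length
  · rw [List.getD_eq_getElem _ _ hi]; exact h _ (List.getElem_mem hi)
  · rw [List.getD_eq_default _ _ (by omega)]; exact H55.SThree.zero_mem_allL

variable {G : Type*} [Group G] {s : G} {Q : Subgroup G} {φ : ℕ → G}

/-- Conjugation by `g` maps the element with code `a` to that with code `b`. -/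
def Mp (φ : ℕ → G) (g : G) (a b : ℕ) : Prop := g * φ a * g⁻¹ = φ b

theorem mp_unique (F : Frame s Q true false φ) {g : G} {a b b' : ℕ} (hb : b ∈ allL) (hb' : b' ∈ allL)
    (h : Mp φ g a b) (h' : Mp φ g a b') : b = b' := F.inj b hb b' hb' (h.symm.trans h')

theorem mp_mu (F : Frame s Q true false φ) {g : G} {a b a' b' : ℕ} (ha : a ∈ allL) (hb : b ∈ allL)
    (ha' : a' ∈ allL) (hb' : b' ∈ allL) (h : Mp φ g a b) (h' : Mp φ g a' b') :
    Mp φ g (mu a a') (mu b b') := by
  unfold Mp mu at *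
  rw [← F.mul a ha a' ha', ← F.mul b hb b' hb', ← h, ← h', conj_mul]

theorem mp_zero (F : Frame s Q true false φ) (g : G) : Mp φ g 0 0 := by
  unfold Mp; rw [F.map_zero, mul_one, mul_inv_cancel]

theorem mp_word (F : Frame s Q true false φ) {g : G} {v v' : List ℕ} (hv : ∀ i, v.getD i 0 ∈ allL)
    (hv' : ∀ i, v'.getD i 0 ∈ allL) : ∀ u : List ℕ,
    (∀ i ∈ u, Mp φ g (v.getD i 0) (v'.getD i 0)) → Mp φ g (evW v u) (evW v' u)
  | [], _ => mp_zero F g
  | i :: u, h => mp_mu F (hv i) (hv' i) (evW_mem hv u) (evW_mem hv' u) (h i List.mem_cons_self)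
      (mp_word F hv hv' u fun j hj => h j (List.mem_cons_of_mem i hj))

theorem mp_conj (F : Frame s Q true false φ) {c a : ℕ} (hc : c ∈ allL) (ha : a ∈ allL) :
    Mp φ (φ c) a (cj c a) := F.map_conj hc ha

theorem mp_comp {g g' : G} {a b c : ℕ} (h : Mp φ g a b) (h' : Mp φ g' b c) : Mp φ (g' * g) a c := by
  unfold Mp at *
  rw [← h', ← h]; group

theorem mp_symm {g : G} {a b : ℕ} (h : Mp φ g a b) : Mp φ g⁻¹ b a := by
  unfold Mp at *
  rw [← h]; group

namespace Side

variable {S : Side}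

theorem getD_gens (hS : S.Good) (i : ℕ) : S.gens.getD i 0 ∈ allL := by
  by_cases hi : i < 3
  · exact hS.dom_allL _ (hS.gens_mem i (List.mem_range.2 hi)).1
  · rw [List.getD_eq_default _ _ (by rw [hS.basic.2.2.2.2.1]; omega)]; exact H55.SThree.zero_mem_allL

theorem getD_ims (hS : S.Good) (i : ℕ) : S.ims.getD i 0 ∈ allL := by
  by_cases hi : i < 3
  · obtain ⟨h1, h2⟩ := hS.gens_mem i (List.mem_range.2 hi)
    rw [h2]
    exact hS.dom_allL _ (hS.alpha_mem _ h1).1
  · rw [List.getD_eq_default _ _ (by rw [hS.basic.2.2.2.2.2.1]; omega)]; exact H55.SThree.zero_mem_allL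

/-- An element acting as the standard automorphism on the generators acts so on the domain. -/
theorem mp_al (hS : S.Good) (F : Frame s Q true false φ) {g : G}
    (h : ∀ i ∈ List.range 3, Mp φ g (S.gens.getD i 0) (S.ims.getD i 0)) {a : ℕ} (ha : a ∈ S.dom) :
    Mp φ g a (S.al a) := by
  obtain ⟨h1, h2⟩ := hS.word a ha
  have := mp_word F (getD_gens hS) (getD_ims hS) (S.wd a) (g := g) fun i hi =>
    h i (List.mem_range.2 (of_decide_eq_true (List.all_eq_true.mp h2 i hi)))
  rw [h1] at this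
  exact this

/-- The standard properties of a swap. -/
structure IsSwap (S : Side) (φ : ℕ → G) (g : G) : Prop where
  sq : g * g = 1
  maps : ∀ a ∈ S.dom, Mp φ g a (S.al a)

theorem mem_centralizer_pair (hS : S.Good) (F : Frame s Q true false φ) {x : G} (h1 : Commute x s)
    (h2 : Commute x (φ S.w)) : ∃ b ∈ S.dom, φ b = x := by
  obtain ⟨b, hb, rfl⟩ := F.surj x (Frame.mem_L_iff.2 h1)
  exact ⟨b, (hS.dom b hb).1 ((F.commute_iff hb (rL_allL hS.basic.2.1)).1 h2), rfl⟩

/-- A swap exists. -/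
theorem exists_swap (hS : S.Good) (F : Frame s Q true false φ) (hf : Fused s true φ S.k)
    (hk : ∀ c ∈ allL, IsConj s (φ c) ↔ c ∈ kL) : ∃ g, S.IsSwap φ g := by
  obtain ⟨hk3, hwR, hwk, hz, -, -, h96D, hwD, hzD, -, -⟩ := hS.basic
  obtain ⟨-, h32, D, hD, htr⟩ := hf
  have hwA := rL_allL hwR
  have hwE : S.w ∈ eL S.k := hwk ▸ (rL_spec S.w hwR).2.2.2.2
  have hw1 : φ S.w ≠ 1 := fun e =>
    (rL_spec S.w hwR).2.2.1 (F.inj S.w hwA 0 zero_mem_allL (e.trans F.map_zero.symm))
  obtain ⟨h, hh, hhs⟩ := htr (φ S.w) ((hD _).2 ⟨S.w, hwE, rfl⟩) hw1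
  have hnorm : ∀ x ∈ D, h * x * h⁻¹ ∈ D := fun x hx => (Subgroup.mem_normalizer_iff.1 hh x).1 hx
  obtain ⟨d, hd, hde⟩ : ∃ d ∈ eL S.k, φ d = h⁻¹ * s * h := by
    have hs : s ∈ D := (hD s).2 ⟨96, (eL_base hk3).2, F.map_s⟩
    have := (Subgroup.mem_normalizer_iff.1 (inv_mem hh) s).1 hs
    rw [inv_inv] at this
    exact (hD _).1 this
  have hd0 : d ≠ 0 := fun e => by
    apply F.s_ne
    rw [e, F.map_zero] at hde
    calc s = h * (h⁻¹ * s * h) * h⁻¹ := by group
      _ = 1 := by rw [← hde]; group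
  have hd96 : d ≠ 96 := fun e => by
    rw [e, F.map_s] at hde
    have : h * s * h⁻¹ = s := by
      calc h * s * h⁻¹ = h * (h⁻¹ * s * h) * h⁻¹ := by rw [← hde]
        _ = s := by group
    exact (rL_spec S.w hwR).2.2.2.1 (F.inj S.w hwA 96 s_mem_allL (by rw [F.map_s, ← hhs, this]))
  obtain ⟨l, hl, hlw⟩ := inE_trans true false S.w hwR rfl d (by rw [hwk]; exact hd) hd0 hd96
  set g0 := h * φ l with hg0
  have m1 : Mp φ g0 96 S.w := by
    unfold Mp
    rw [F.map_s, hg0, ← hhs]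
    calc h * φ l * s * (h * φ l)⁻¹ = h * (φ l * s * (φ l)⁻¹) * h⁻¹ := by group
      _ = _ := by rw [(F.s_comm (F.mem l hl)).eq, mul_inv_cancel_right]
  have m2 : Mp φ g0 S.w 96 := by
    unfold Mp
    rw [F.map_s, hg0]
    calc h * φ l * φ S.w * (h * φ l)⁻¹ = h * (φ l * φ S.w * (φ l)⁻¹) * h⁻¹ := by group
      _ = h * (h⁻¹ * s * h) * h⁻¹ := by rw [F.map_conj hl hwA, hlw, hde]
      _ = s := by group
  have hg0D : ∀ x ∈ D, g0 * x * g0⁻¹ ∈ D := by
    intro x hx
    obtain ⟨c, hc, rfl⟩ := (hD x).1 hx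
    have h1 : φ l * φ c * (φ l)⁻¹ ∈ D := (hD _).2 ⟨conjC true false l c,
      inE_normal true false S.k hk3 h32 c hc l hl, (F.map_conj hl (eL_allL hk3 hc)).symm⟩
    have h2 := hnorm _ h1
    rwa [show g0 * φ c * g0⁻¹ = h * (φ l * φ c * (φ l)⁻¹) * h⁻¹ by rw [hg0]; group]
  -- images
  have himg : ∀ a ∈ S.dom, ∃ b ∈ S.dom, Mp φ g0 a b := by
    intro a ha
    have haA := hS.dom_allL a ha
    have ca : Commute (φ a) (φ S.w) := (F.commute_iff haA hwA).2 ((hS.dom a haA).2 ha)
    have cs : Commute (φ a) s := F.s_comm (F.mem a haA)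
    have e1 : g0 * φ S.w * g0⁻¹ = s := m2.trans F.map_s
    have e2 : g0 * s * g0⁻¹ = φ S.w := F.map_s ▸ m1
    have h1 := (Commute.conj_iff g0).mpr ca
    have h2 := (Commute.conj_iff g0).mpr cs
    rw [e1] at h1
    rw [e2] at h2
    obtain ⟨b, hb, hbe⟩ := mem_centralizer_pair hS F h1 h2
    exact ⟨b, hb, hbe.symm⟩
  choose! f hfD hfm using himg
  have hok : ∀ a ∈ allL, ∀ b ∈ allL, Mp φ g0 a b → S.okPair a b = true := by
    intro a ha b hb hab
    have e0 : a = 0 ↔ b = 0 := by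
      constructor
      · rintro rfl
        exact mp_unique F hb zero_mem_allL hab (mp_zero F g0)
      · rintro rfl
        unfold Mp at hab
        rw [F.map_zero, conj_eq_one_iff] at hab
        exact F.inj a ha 0 zero_mem_allL (hab.trans F.map_zero.symm)
    have e1 : a ∈ kL ↔ b ∈ kL := by
      rw [← hk a ha, ← hk b hb]
      exact ⟨fun h => h.trans (isConj_iff.2 ⟨g0, hab⟩), fun h => h.trans (isConj_iff.2 ⟨g0, hab⟩).symm⟩
    have e2 : mu a a = 0 ↔ mu b b = 0 := by
      have hm := mp_mu F ha hb ha hb hab hab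
      constructor
      · intro h0
        rw [h0] at hm
        exact mp_unique F (mu_mem hb hb) zero_mem_allL hm (mp_zero F g0)
      · intro h0
        rw [h0] at hm
        unfold Mp at hm
        rw [F.map_zero, conj_eq_one_iff] at hm
        exact F.inj _ (mu_mem ha ha) 0 zero_mem_allL (hm.trans F.map_zero.symm)
    have e3 : a ∈ eL S.k → b ∈ eL S.k := fun hae => by
      obtain ⟨c, hc, hce⟩ := (hD _).1 (hg0D _ ((hD _).2 ⟨a, hae, rfl⟩))
      rwa [F.inj b hb c (eL_allL hk3 hc) (hab.symm.trans hce.symm)]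
    have b0 : ((a == 0) == (b == 0)) = true := beq_iff_eq.2 (Bool.eq_iff_iff.2 (by simpa using e0))
    have b1 : (kL.contains a == kL.contains b) = true := beq_iff_eq.2 (Bool.eq_iff_iff.2
      (List.contains_iff_mem.trans (e1.trans List.contains_iff_mem.symm)))
    have b2 : ((mu a a == 0) == (mu b b == 0)) = true :=
      beq_iff_eq.2 (Bool.eq_iff_iff.2 (beq_iff_eq.trans (e2.trans beq_iff_eq.symm)))
    have b3 : (!(eL S.k).contains a || (eL S.k).contains b) = true := by
      cases hc : (eL S.k).contains a with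
      | false => rfl
      | true =>
        rw [Bool.not_true, Bool.false_or]
        exact List.contains_iff_mem.2 (e3 (List.contains_iff_mem.1 hc))
    unfold okPair
    rw [b0, b1, b2, b3]
    rfl
  set t : List ℕ := [f (S.gens.getD 0 0), f (S.gens.getD 1 0), f (S.gens.getD 2 0)] with ht
  have hgm : ∀ i, i < 3 → S.gens.getD i 0 ∈ S.dom := fun i hi => (hS.gens_mem i (List.mem_range.2 hi)).1
  have htget : ∀ i, i < 3 → t.getD i 0 = f (S.gens.getD i 0) := fun i hi => by
    rcases (show i = 0 ∨ i = 1 ∨ i = 2 by omega) with rfl | rfl | rfl <;> rfl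
  have htA : ∀ i, t.getD i 0 ∈ allL := by
    refine getD_mem fun x hx => ?_
    simp only [ht, List.mem_cons, List.not_mem_nil, or_false] at hx
    rcases hx with rfl | rfl | rfl <;> exact hS.dom_allL _ (hfD _ (hgm _ (by norm_num)))
  have hev : ∀ u : List ℕ, (∀ i ∈ u, i < 3) → Mp φ g0 (evW S.gens u) (evW t u) := fun u hu =>
    mp_word F (getD_gens hS) htA u fun i hi => htget i (hu i hi) ▸ hfm _ (hgm i (hu i hi))
  have hwu : ∀ a ∈ S.dom, ∀ i ∈ S.wd a, i < 3 := fun a ha i hi =>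
    of_decide_eq_true (List.all_eq_true.mp (hS.word a ha).2 i hi)
  have hev96 : evW t (S.wd 96) = S.w := by
    have := hev _ (hwu 96 h96D)
    rw [(hS.word 96 h96D).1] at this
    exact mp_unique F (evW_mem htA _) hwA this m1
  have hevw : evW t (S.wd S.w) = 96 := by
    have := hev _ (hwu S.w hwD)
    rw [(hS.word S.w hwD).1] at this
    exact mp_unique F (evW_mem htA _) s_mem_allL this m2
  have hsig : ([[1, 2], [0, 0, 0, 1], [0, 2]] : List (List ℕ)).all
      (fun u => S.okPair (evW S.gens u) (evW t u)) = true := by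
    rw [List.all_eq_true]
    intro u hu
    refine hok _ (evW_mem (getD_gens hS) u) _ (evW_mem htA u) (hev u ?_)
    intro i hi
    simp only [List.mem_cons, List.not_mem_nil, or_false] at hu
    rcases hu with rfl | rfl | rfl <;> simp at hi <;> omega
  have htC : t ∈ S.cands := by
    simp only [cands, List.mem_flatMap, List.mem_filterMap, List.mem_filter]
    have hmem : ∀ i, i < 3 → f (S.gens.getD i 0) ∈ S.dom ∧
        S.okPair (S.gens.getD i 0) (f (S.gens.getD i 0)) = true := fun i hi =>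
      ⟨hfD _ (hgm i hi), hok _ (getD_gens hS i) _ (hS.dom_allL _ (hfD _ (hgm i hi))) (hfm _ (hgm i hi))⟩
    refine ⟨_, hmem 0 (by norm_num), _, hmem 1 (by norm_num), _, hmem 2 (by norm_num), ?_⟩
    rw [← ht, if_pos]
    simp [hev96, hevw, hsig]
  obtain ⟨e, he, hee⟩ := List.any_eq_true.mp (hS.twist t htC)
  have heA := hS.dom_allL e he
  unfold isTwist at hee
  rw [beq_iff_eq] at hee
  set g1 := (φ e)⁻¹ * g0 with hg1
  have hmap1 : ∀ a ∈ S.dom, Mp φ g1 a (S.al a) := fun a ha => by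
    refine mp_al hS F (fun i hi => ?_) ha
    have hi3 := List.mem_range.1 hi
    have hlen := hS.basic.2.2.2.2.2.1
    have e1 : t.getD i 0 = cj e (S.ims.getD i 0) := by
      rw [← hee, List.getD_eq_getElem _ _ (by rw [List.length_map]; omega),
        List.getD_eq_getElem _ _ (by omega), List.getElem_map]
    have h1 : Mp φ g0 (S.gens.getD i 0) (cj e (S.ims.getD i 0)) :=
      e1 ▸ htget i hi3 ▸ hfm _ (hgm i hi3)
    exact mp_comp h1 (mp_symm (mp_conj F heA (getD_ims hS i)))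
  -- the square
  have halA : ∀ a ∈ S.dom, S.al a ∈ allL := fun a ha => hS.dom_allL _ (hS.alpha_mem a ha).1
  have hsq : ∀ a ∈ S.dom, Commute (g1 * g1) (φ a) := fun a ha => by
    have h := mp_comp (hmap1 a ha) (hmap1 _ (hS.alpha_mem a ha).1)
    rw [(hS.alpha_mem a ha).2] at h
    exact mul_inv_eq_iff_eq_mul.mp h
  obtain ⟨c, hc, hce⟩ := mem_centralizer_pair hS F (F.map_s ▸ hsq 96 h96D) (hsq S.w hwD)
  have hc4 : c = 0 ∨ c = 96 ∨ c = S.w ∨ c = S.z := hS.centre c hc fun i hi =>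
    (F.commute_iff (hS.dom_allL c hc) (getD_gens hS i)).1 (hce.symm ▸ hsq _ (hS.gens_mem i hi).1)
  have hfix : S.al c = c := by
    refine mp_unique F (halA c hc) (hS.dom_allL c hc) (hmap1 c hc) ?_
    unfold Mp
    rw [hce]; group
  have hz96 : ∀ a ∈ S.dom, Mp φ (g1 * s) a (S.al a) := fun a ha => by
    have h1 : Mp φ s a a := by
      have := mp_conj F s_mem_allL (hS.dom_allL a ha)
      rwa [(hS.centre_inner a ha).1, F.map_s] at this
    exact mp_comp h1 (hmap1 a ha)
  obtain ⟨ha1, ha2, ha3, -⟩ := hS.alpha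
  have h9w : (96 : ℕ) ≠ S.w := fun e => (rL_spec S.w hwR).2.2.2.1 e.symm
  rcases hc4 with rfl | rfl | rfl | rfl
  · exact ⟨g1, by rw [← hce, F.map_zero], hmap1⟩
  · exact absurd (ha1.symm.trans hfix).symm h9w
  · exact absurd (ha2.symm.trans hfix) h9w
  · refine ⟨g1 * s, ?_, hz96⟩
    have hgs : g1 * s * g1⁻¹ = φ S.w := by
      have := hmap1 96 h96D
      rw [ha1] at this
      unfold Mp at this
      rwa [F.map_s] at this
    have hwz : φ S.w * φ S.z * s = 1 := by
      rw [← F.map_s, F.mul _ hwA _ (hS.dom_allL _ hzD),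
        F.mul _ (mu_mem hwA (hS.dom_allL _ hzD)) _ s_mem_allL, ← F.map_zero, hz]
      congr 1
      exact (show ∀ w ∈ rL, mu (mu w (mu w 96)) 96 = 0 by decide +kernel) S.w hwR
    calc g1 * s * (g1 * s) = (g1 * s * g1⁻¹) * (g1 * g1) * s := by group
      _ = φ S.w * φ S.z * s := by rw [hgs, hce]
      _ = 1 := hwz

/-- A swap is conjugate to `s`. -/
theorem swap_conj (hS : S.Good) (F : Frame s Q true false φ) (hk : ∀ c ∈ allL, IsConj s (φ c) ↔ c ∈ kL)
    {g : G} (hg : S.IsSwap φ g) : IsConj s g := by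
  obtain ⟨-, hwR, -, -, -, -, h96D, hwD, hzD, -, hlA⟩ := hS.basic
  obtain ⟨hl2, hlw, hlz, hls, hlD⟩ := hS.invl
  obtain ⟨ha1, ha2, ha3, -⟩ := hS.alpha
  set q := g * φ S.l * g * φ S.l * g with hq
  have hmap : ∀ a ∈ S.dom, Mp φ q a (S.al (cj S.l (S.al (cj S.l (S.al a))))) := fun a ha => by
    have d1 := (hS.alpha_mem a ha).1
    have d2 := hlD _ d1
    have d3 := (hS.alpha_mem _ d2).1
    have d4 := hlD _ d3
    have hh := mp_comp (mp_comp (mp_comp (mp_comp (hg.maps a ha) (mp_conj F hlA (hS.dom_allL _ d1)))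
      (hg.maps _ d2)) (mp_conj F hlA (hS.dom_allL _ d3))) (hg.maps _ d4)
    rw [hq]
    simpa [mul_assoc] using hh
  have hq96 : Commute q s := by
    have := hmap 96 h96D
    rw [ha1, hlw, ha3, hlz, ha2] at this
    unfold Mp at this
    rw [F.map_s] at this
    exact mul_inv_eq_iff_eq_mul.mp this
  have hll : φ S.l * φ S.l = 1 := by rw [F.mul _ hlA _ hlA, show mulC true false S.l S.l = 0 from hl2, F.map_zero]
  have hginv : g⁻¹ = g := inv_eq_of_mul_eq_one_right hg.sq
  have hlinv : (φ S.l)⁻¹ = φ S.l := inv_eq_of_mul_eq_one_right hll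
  have hconj : (g * φ S.l) * g * (g * φ S.l)⁻¹ = q := by
    rw [hq, mul_inv_rev, hginv, hlinv]; group
  have hq2 : q * q = 1 := by rw [← hconj, conj_mul, hg.sq, mul_one, mul_inv_cancel]
  have hg1 : g ≠ 1 := fun e => by
    have := hg.maps 96 h96D
    rw [ha1, e] at this
    unfold Mp at this
    rw [one_mul, inv_one, mul_one] at this
    exact (rL_spec S.w hwR).2.2.2.1 (F.inj S.w (rL_allL hwR) 96 s_mem_allL this.symm)
  have hq1 : q ≠ 1 := fun e => hg1 (conj_eq_one_iff.mp (hconj.trans e))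
  obtain ⟨c, hc, hce⟩ := F.surj q (Frame.mem_L_iff.2 hq96)
  have hcI : isI true false c = true := by
    have h1 : mu c c = 0 := F.inj _ (mu_mem hc hc) 0 zero_mem_allL (by
      rw [show φ (mu c c) = φ c * φ c from (F.mul c hc c hc).symm, hce, hq2, F.map_zero])
    have h2 : c ≠ 0 := fun e => hq1 (by rw [← hce, e, F.map_zero])
    unfold isI
    simp [h2, show mulC true false c c = 0 from h1]
  have hcK : c ∈ kL := hS.class_long c hc hcI fun i hi => by
    have hgi := (hS.gens_mem i hi).1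
    have h := hmap _ hgi
    rw [← hce] at h
    exact mp_unique F (Frame.conjC_mem true false hc (hS.dom_allL _ hgi))
      (hS.dom_allL _ (hS.alpha_mem _ (hlD _ (hS.alpha_mem _ (hlD _ (hS.alpha_mem _ hgi).1)).1)).1)
      (mp_conj F hc (hS.dom_allL _ hgi)) h
  have hsq' : IsConj s q := hce ▸ (hk c hc).2 hcK
  exact hsq'.trans (isConj_iff.2 ⟨g * φ S.l, hconj⟩).symm

/-- The braid relation. -/
theorem swap_braid (hS : S.Good) (F : Frame s Q true false φ) (hk : ∀ c ∈ allL, IsConj s (φ c) ↔ c ∈ kL)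
    {g : G} (hg : S.IsSwap φ g) : (g * φ 179) ^ 3 = 1 := by
  obtain ⟨-, hwR, -, -, -, -, h96D, hwD, hzD, hfD, -⟩ := hS.basic
  obtain ⟨hbw, hbf, hb96⟩ := hS.braid
  obtain ⟨ha1, ha2, -, ha4⟩ := hS.alpha
  have hbA : (179 : ℕ) ∈ allL := mem_allL.2 (by norm_num)
  have hbb : φ 179 * φ 179 = 1 := by
    rw [F.mul _ hbA _ hbA, show mulC true false 179 179 = 0 by decide +kernel, F.map_zero]
  set p := g * φ 179 with hp
  have hA := fun a (ha : a ∈ S.dom) => hS.dom_allL a ha
  have p1 : Mp φ p 96 S.w := mp_comp (hb96 ▸ mp_conj F hbA (hA 96 h96D)) (by have := hg.maps 96 h96D; rwa [ha1] at this)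
  have p2 : Mp φ p S.w S.f := mp_comp (hbw ▸ mp_conj F hbA (hA _ hwD)) (by have := hg.maps _ hfD; rwa [ha4] at this)
  have p3 : Mp φ p S.f 96 := mp_comp (hbf ▸ mp_conj F hbA (hA _ hfD)) (by have := hg.maps _ hwD; rwa [ha2] at this)
  set k := p * p * p with hk3
  have k1 : Commute k s := by
    have := mp_comp (mp_comp p1 p2) p3
    unfold Mp at this
    rw [F.map_s, ← mul_assoc] at this
    exact mul_inv_eq_iff_eq_mul.mp this
  have k2 : Commute k (φ S.w) := by
    have := mp_comp (mp_comp p2 p3) p1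
    unfold Mp at this
    rw [← mul_assoc] at this
    exact mul_inv_eq_iff_eq_mul.mp this
  have k3 : Commute k (φ S.f) := by
    have := mp_comp (mp_comp p3 p1) p2
    unfold Mp at this
    rw [← mul_assoc] at this
    exact mul_inv_eq_iff_eq_mul.mp this
  obtain ⟨c, hc, hce⟩ := F.surj k (Frame.mem_L_iff.2 k1)
  obtain ⟨hcD, hcube⟩ := hS.cube c hc ((F.commute_iff hc (hA _ hwD)).1 (hce.symm ▸ k2))
    ((F.commute_iff hc (hA _ hfD)).1 (hce.symm ▸ k3))
  have hpc : Mp φ p c c := by unfold Mp; rw [hce, hk3]; group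
  have hginv : g⁻¹ = g := inv_eq_of_mul_eq_one_right hg.sq
  -- `179` keeps the code in the domain
  have hcb : cj 179 c ∈ S.dom := by
    have e : φ (cj 179 c) = g * φ c * g⁻¹ := by
      rw [show φ (cj 179 c) = φ 179 * φ c * (φ 179)⁻¹ from (F.map_conj hbA hc).symm]
      unfold Mp at hpc
      calc φ 179 * φ c * (φ 179)⁻¹ = g⁻¹ * (p * φ c * p⁻¹) * g := by rw [hp]; group
        _ = _ := by rw [hpc, hginv]
    rw [hg.maps c hcD] at e
    rw [show cj 179 c = S.al c from
      F.inj _ (Frame.conjC_mem true false hbA hc) _ (hA _ (hS.alpha_mem c hcD).1) e]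
    exact (hS.alpha_mem c hcD).1
  have hal : S.al (cj 179 c) = c := mp_unique F (hA _ (hS.alpha_mem _ hcb).1) hc
    (mp_comp (mp_conj F hbA hc) (hg.maps _ hcb)) hpc
  rcases hcube hcb hal with hc0 | ⟨hnK, -⟩
  · rw [pow_succ, pow_two, ← hk3, ← hce, hc0, F.map_zero]
  · exfalso
    apply hnK
    rw [← hk _ (mu_mem hbA hc), show φ (mu 179 c) = φ 179 * φ c from (F.mul _ hbA _ hc).symm, hce]
    refine (swap_conj hS F hk hg).trans (isConj_iff.2 ⟨φ 179 * g * φ 179, ?_⟩)
    rw [hk3, hp, mul_inv_rev, mul_inv_rev, hginv, inv_eq_of_mul_eq_one_right hbb]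
    group

end Side

end H78.Copy
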